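import Groth.Agent.OmegaSheaf.IdealMod
import Groth.Agent.Calg4.NormalizationChar
import Groth.Agent.S2102
import Groth.Agent.PicAux.Sections
import Mathlib.RingTheory.IntegralClosure.IntegrallyClosed
import Mathlib.AlgebraicGeometry.FunctionField

/-!
# Endomorphisms of a nonzero ideal sheaf on a normal integral Noetherian scheme
-/

set_option autoImplicit false
set_option backward.isDefEq.respectTransparency false
set_option backward.isDefEq.respectTransparency.types false

universe u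

open CategoryTheory CategoryTheory.Limits AlgebraicGeometry Opposite TopologicalSpace
open Groth.PicAux (res resX)

namespace Groth.NonPureEnd

/-- An endomorphism of a nonzero finite ideal of an integrally closed domain is a scalar. -/
theorem exists_scalar {A : Type u} [CommRing A] [IsDomain A] [IsIntegrallyClosed A] (J : Ideal A)
    (hJ : J ≠ ⊥) (hfg : J.FG) (φ : J →ₗ[A] J) : ∃ c : A, ∀ a : J, (φ a : A) = c * a := by
  obtain ⟨b, hb, hb0⟩ := Submodule.exists_mem_ne_zero_of_ne_bot hJ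
  let F := FractionRing A
  let h : F := algebraMap A F (φ ⟨b, hb⟩ : A) / algebraMap A F b
  have hb' : algebraMap A F b ≠ 0 := (map_ne_zero_iff _ (IsFractionRing.injective A F)).2 hb0
  have key : ∀ a : J, h * algebraMap A F (a : A) = algebraMap A F (φ a : A) := by
    intro a
    have e : b • φ a = (a : A) • φ ⟨b, hb⟩ := by
      rw [← map_smul, ← map_smul]
      exact congrArg φ (Subtype.ext (mul_comm b (a : A)))
    have e' : algebraMap A F b * algebraMap A F (φ a : A) =
        algebraMap A F (a : A) * algebraMap A F (φ ⟨b, hb⟩ : A) := by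
      rw [← map_mul, ← map_mul]
      exact congrArg (fun z : J => algebraMap A F (z : A)) e
    show algebraMap A F (φ ⟨b, hb⟩ : A) / algebraMap A F b * algebraMap A F (a : A) = _
    rw [div_mul_eq_mul_div, div_eq_iff hb']
    linear_combination -e'
  let N : Submodule A F := Submodule.map (Algebra.linearMap A F) J
  have hN : N.FG := Submodule.FG.map _ hfg
  have hint : IsIntegral A h := by
    refine isIntegral_of_smul_mem_submodule N ?_ hN h ?_
    · intro hbot
      exact hb' ((Submodule.mem_bot A).1 (hbot ▸ ⟨b, hb, rfl⟩))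
    · rintro _ ⟨a, ha, rfl⟩
      exact ⟨_, (φ ⟨a, ha⟩).2, (key ⟨a, ha⟩).symm⟩
  obtain ⟨c, hc⟩ := IsIntegrallyClosed.isIntegral_iff.1 hint
  refine ⟨c, fun a => IsFractionRing.injective A F ?_⟩
  rw [map_mul, hc, key]

variable {X : Scheme.{u}} [IsIntegral X]

theorem isIntegrallyClosed_sections (hX : Pi1.IsNormalScheme X) (U : X.Opens) [Nonempty U] :
    IsIntegrallyClosed Γ(X, U) := by
  haveI : IsIntegral (U : Scheme.{u}) := isIntegral_of_isOpenImmersion U.ι
  haveI := Groth.Agent.S2102.result (U : Scheme.{u})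
    (Groth.Calg4.NormChar.isNormalScheme_of_isOpenImmersion U.ι hX)
  exact IsIntegrallyClosed.of_equiv U.topIso.commRingCatIsoToRingEquiv

theorem resX_injective {U V : X.Opens} (h : V ≤ U) (hne : (V : Set X).Nonempty) :
    Function.Injective (resX X h) := by
  haveI : Nonempty V := hne.to_subtype
  exact map_injective_of_isIntegral X (homOfLE h) 

theorem ideal_ne_bot (I : X.IdealSheafData) (hI : I ≠ ⊥) (U : X.affineOpens) (hU : (U.1 : Set X).Nonempty) :
    I.ideal U ≠ ⊥ := by
  intro hbot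
  refine hI (le_bot_iff.1 fun V => fun a ha => ?_)
  rcases (V.1 : Set X).eq_empty_or_nonempty with hV | hV
  · haveI : Subsingleton Γ(X, V.1) := by
      rw [show V.1 = ⊥ from Opens.ext hV]
      exact CommRingCat.subsingleton_of_isTerminal X.sheaf.isTerminalOfEmpty
    rw [Subsingleton.elim a 0]
    exact zero_mem _
  obtain ⟨x, hxU, hxV⟩ := nonempty_preirreducible_inter U.1.2 V.1.2 hU hV
  obtain ⟨W, hW, hxW, hWle⟩ := exists_isAffineOpen_mem_and_subset (x := x) (U := U.1 ⊓ V.1) ⟨hxU, hxV⟩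
  have h0 : I.ideal ⟨W, hW⟩ = ⊥ := by
    rw [← I.map_ideal (U := ⟨W, hW⟩) (V := U) (hWle.trans inf_le_left), hbot, Ideal.map_bot]
  have ha' : resX X (hWle.trans inf_le_right) a ∈ I.ideal ⟨W, hW⟩ := by
    rw [← I.map_ideal (U := ⟨W, hW⟩) (V := V) (hWle.trans inf_le_right)]
    exact Ideal.mem_map_of_mem _ ha
  rw [h0, Ideal.mem_bot] at ha'
  have := resX_injective (hWle.trans inf_le_right) ⟨x, hxW⟩ (ha'.trans (map_zero _).symm)
  rw [this]
  exact zero_mem _

/-- An endomorphism of a nonzero ideal sheaf is multiplication by a global function. -/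
theorem exists_global_scalar [IsLocallyNoetherian X] (hX : Pi1.IsNormalScheme X) (I : X.IdealSheafData)
    (hI : I ≠ ⊥) (φ : ClSub.idealMod I ⟶ ClSub.idealMod I) :
    ∃ c : Γ(X, ⊤), ∀ (V : X.Opens) (s : Γ(ClSub.idealMod I, V)),
      φ.app V s = resX X (le_top : V ≤ ⊤) c • s := by
  classical
  let T := {U : X.affineOpens // (U.1 : Set X).Nonempty}
  have hloc : ∀ U : T, ∃ c : Γ(X, U.1.1), ∀ s, φ.app U.1.1 s = c • s := by
    rintro ⟨⟨U, hU⟩, hne⟩
    haveI : Nonempty U := hne.to_subtype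
    haveI := isIntegrallyClosed_sections hX U
    haveI : IsNoetherianRing Γ(X, U) := IsLocallyNoetherian.component_noetherian ⟨U, hU⟩
    let e := Groth.OmegaSheaf.idealSecEquiv I ⟨U, hU⟩
    let φU : Γ(ClSub.idealMod I, U) →ₗ[Γ(X, U)] Γ(ClSub.idealMod I, U) :=
      { toFun := φ.app U, map_add' := map_add _, map_smul' := φ.app_smul }
    obtain ⟨c, hc⟩ := exists_scalar (I.ideal ⟨U, hU⟩) (ideal_ne_bot I hI ⟨U, hU⟩ hne)
      (IsNoetherian.noetherian _) (e.toLinearMap.comp (φU.comp e.symm.toLinearMap))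
    refine ⟨c, fun s => e.injective (Subtype.ext ?_)⟩
    have := hc (e s)
    simp only [LinearMap.comp_apply, LinearEquiv.coe_coe, LinearEquiv.symm_apply_apply] at this
    rw [map_smul]
    exact this
  choose c hc using hloc
  have hagree : ∀ (U U' : T) (x : X) (_ : x ∈ U.1.1) (_ : x ∈ U'.1.1), ∃ (W : X.Opens) (h : W ≤ U.1.1)
      (h' : W ≤ U'.1.1), x ∈ W ∧ resX X h (c U) = resX X h' (c U') := by
    intro U U' x hx hx'
    obtain ⟨W, hW, hxW, hWle⟩ := exists_isAffineOpen_mem_and_subset (x := x) (U := U.1.1 ⊓ U'.1.1) ⟨hx, hx'⟩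
    let V : T := ⟨⟨W, hW⟩, x, hxW⟩
    have key : ∀ (U₀ : T) (h : W ≤ U₀.1.1), resX X h (c U₀) = c V := by
      intro U₀ h
      obtain ⟨a, ha, ha0⟩ := Submodule.exists_mem_ne_zero_of_ne_bot (ideal_ne_bot I hI U₀.1 U₀.2)
      obtain ⟨s, hs⟩ := Groth.OmegaSheaf.exists_idealSect I U₀.1 ha
      have e1 : resX X h (c U₀) • res (ClSub.idealMod I) h s = c V • res (ClSub.idealMod I) h s := by
        rw [← Groth.PicAux.res_smul, ← hc U₀ s, ← Groth.PicAux.app_res]
        exact hc V _
      have e2 := congrArg (OmegaSh.idealSect I W) e1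
      rw [Groth.OmegaSheaf.idealSect_smul, Groth.OmegaSheaf.idealSect_smul] at e2
      haveI : Nonempty W := ⟨⟨x, hxW⟩⟩
      refine mul_right_cancel₀ ?_ e2
      rw [show OmegaSh.idealSect I W (res (ClSub.idealMod I) h s) = resX X h a from
        (Groth.OmegaSheaf.idealSect_res I h s).trans (congrArg _ hs)]
      exact fun e => ha0 (resX_injective h ⟨x, hxW⟩ (e.trans (map_zero _).symm))
    exact ⟨W, hWle.trans inf_le_left, hWle.trans inf_le_right, hxW,
      (key U (hWle.trans inf_le_left)).trans (key U' (hWle.trans inf_le_right)).symm⟩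
  have hcov : (⊤ : X.Opens) ≤ ⨆ U : T, U.1.1 := fun x _ => by
    obtain ⟨W, hW, hxW, -⟩ := exists_isAffineOpen_mem_and_subset (x := x) (U := ⊤) trivial
    exact Opens.mem_iSup.2 ⟨⟨⟨W, hW⟩, x, hxW⟩, hxW⟩
  obtain ⟨g, hg, -⟩ := X.sheaf.existsUnique_gluing' (fun U : T => U.1.1) ⊤ (fun _ => homOfLE le_top) hcov c (by
    intro U U'
    rcases ((U.1.1 ⊓ U'.1.1 : X.Opens) : Set X).eq_empty_or_nonempty with he | ⟨x, hx, hx'⟩
    · haveI : Subsingleton Γ(X, U.1.1 ⊓ U'.1.1) := by
        rw [show U.1.1 ⊓ U'.1.1 = ⊥ from Opens.ext he]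
        exact CommRingCat.subsingleton_of_isTerminal X.sheaf.isTerminalOfEmpty
      exact @Subsingleton.elim Γ(X, U.1.1 ⊓ U'.1.1) inferInstance _ _
    · obtain ⟨W, h, h', hxW, e⟩ := hagree U U' x hx hx'
      refine resX_injective (le_inf h h') ⟨x, hxW⟩ ?_
      change resX X _ (resX X inf_le_left (c U)) = resX X _ (resX X inf_le_right (c U'))
      rw [Groth.PicAux.resX_resX, Groth.PicAux.resX_resX]
      exact e)
  refine ⟨g, fun V s => ?_⟩
  refine Groth.PicAux.res_ext (fun U : T => V ⊓ U.1.1) (fun _ => inf_le_left)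
    (fun x hx => ?_) fun U => ?_
  · obtain ⟨U, hxU⟩ := Opens.mem_iSup.1 (hcov (Opens.mem_top x))
    exact Opens.mem_iSup.2 ⟨U, hx, hxU⟩
  rw [← Groth.PicAux.app_res, Groth.PicAux.res_smul, Groth.PicAux.resX_resX]
  generalize res (ClSub.idealMod I) (inf_le_left : V ⊓ U.1.1 ≤ V) s = t
  refine Groth.PicAux.res_ext (fun B : {B : T // B.1.1 ≤ V ⊓ U.1.1} => B.1.1.1) (fun B => B.2)
    (fun x hx => ?_) fun B => ?_
  · obtain ⟨W, hW, hxW, hWle⟩ := exists_isAffineOpen_mem_and_subset hx
    exact Opens.mem_iSup.2 ⟨⟨⟨⟨W, hW⟩, x, hxW⟩, hWle⟩, hxW⟩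
  rw [← Groth.PicAux.app_res, Groth.PicAux.res_smul, Groth.PicAux.resX_resX, hc B.1]
  exact congrArg (fun z => z • res (ClSub.idealMod I) B.2 t) (hg B.1).symm

end Groth.NonPureEnd
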